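import Groth.Agent.L10.MatlisEquiv.General
import Groth.Agent.L10.DRing.Devissage
import Groth.Agent.L10.DRing.GammaTensor
import Groth.Agent.L29.Formal.CechArtinian
import Groth.Agent.L04.MatlisArtin
import Groth.Agent.L04.Essential

/-!
# Local cohomology of finite modules is Artinian
-/

set_option autoImplicit false
set_option linter.style.haveILetI false
set_option backward.defeqAttrib.useBackward true
set_option backward.isDefEq.respectTransparency false
universe u

open CategoryTheory CategoryTheory.Limits CategoryTheory.Pretriangulated IsLocalRing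

attribute [local instance] HasDerivedCategory.standard

noncomputable section

namespace Groth.L10.MatlisEquiv

open Groth.L04.RGamma Groth.L10.CechTorsLocal

variable {A : Type u} [CommRing A] [IsLocalRing A] [IsNoetherianRing A]

/-- Power torsion with finite socle is the same as Artinian. -/
theorem isArtinian_iff_cofinite (N : Type u) [AddCommGroup N] [Module A N] :
    IsArtinian A N ↔ LocCoh.IsPowerTorsion (maximalIdeal A) N ∧
      Module.Finite A ↥(LocCoh.torsionBy (maximalIdeal A) N) := by
  obtain ⟨E, _, _, f, hf⟩ := Groth.L04.exists_injectiveHull.{u, u} (R := A) (ResidueField A)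
  rw [Groth.L04.isArtinian_iff_torsion_socle hf N]
  refine and_congr_right fun _ => ⟨fun h => Module.Finite.trans (A ⧸ maximalIdeal A) _,
    fun h => Module.Finite.of_restrictScalars_finite A (A ⧸ maximalIdeal A) _⟩

theorem exists_generators : ∃ fs : List A, Ideal.span {x : A | x ∈ fs} = maximalIdeal A := by
  obtain ⟨s, hs⟩ := (isNoetherianRing_iff_ideal_fg A).1 inferInstance (maximalIdeal A)
  exact ⟨s.toList, by simpa using hs⟩

variable [DRing.HasRgammaI (maximalIdeal A)]

/-- The complexes with Artinian local cohomology. -/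
def CofΓ : ObjectProperty (Dual.D A) := fun X =>
  ∀ i : ℤ, IsArtinian A (Dual.HD A ((DRing.RgammaI (maximalIdeal A)).obj X) i)

theorem cofΓ_iso : (CofΓ (A := A)).IsClosedUnderIsomorphisms where
  of_iso e h i := by
    haveI := h i
    exact isArtinian_of_linearEquiv ((DerivedCategory.homologyFunctor (ModuleCat.{u} A) i).mapIso
      ((DRing.RgammaI (maximalIdeal A)).mapIso e)).toLinearEquiv

theorem cofΓ_shift {X : Dual.D A} (h : CofΓ X) (n : ℤ) : CofΓ (X⟦n⟧) := fun i => by
  obtain ⟨u⟩ := Groth.L10.CechTorsLocal.exists_iso (maximalIdeal A) (tbij_ε (maximalIdeal A) (X⟦n⟧))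
    (Groth.L10.DualityCompletion.tbij_shift (maximalIdeal A) (tbij_ε (maximalIdeal A) X) n)
    (isTors_RgammaI (maximalIdeal A) _) ((isTors_RgammaI (maximalIdeal A) X).shift (maximalIdeal A) n)
  exact @isArtinian_of_linearEquiv A _ _ _ _ _ _ _ ((DerivedCategory.homologyFunctor (ModuleCat.{u} A) i).mapIso u ≪≫
    (((DerivedCategory.homologyFunctor (ModuleCat.{u} A) 0).shiftIso n i (n + i) rfl).app
      ((DRing.RgammaI (maximalIdeal A)).obj X))).toLinearEquiv.symm (h (n + i))

theorem cofΓ_ext (T : Triangle (Dual.D A)) (hT : T ∈ distinguishedTriangles) (h₁ : CofΓ T.obj₁) (h₃ : CofΓ T.obj₃) :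
    CofΓ T.obj₂ := fun i => by
  obtain ⟨δ, h⟩ := Groth.L04.ComplRG.exists_R_triangle (maximalIdeal A) T hT
  have hex := (ShortComplex.ShortExact.moduleCat_exact_iff_function_exact _).1
    (DerivedCategory.HomologySequence.exact₂ _ h i)
  haveI := h₁ i
  haveI := h₃ i
  exact isArtinian_of_range_eq_ker
    ((DerivedCategory.homologyFunctor (ModuleCat.{u} A) i).map ((DRing.RgammaI (maximalIdeal A)).map T.mor₁)).hom
    ((DerivedCategory.homologyFunctor (ModuleCat.{u} A) i).map ((DRing.RgammaI (maximalIdeal A)).map T.mor₂)).hom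
    (LinearMap.exact_iff.1 hex).symm

theorem cofΓ_zero (X : Dual.D A) (h : IsZero X) : CofΓ X := fun i => by
  have hz : IsZero ((DRing.RgammaI (maximalIdeal A)).obj X) := by
    rw [IsZero.iff_id_eq_zero]
    have := Groth.L04.ComplRG.smul_R (maximalIdeal A) (Z := X) (r := 1) (by rw [one_smul]; exact h.eq_of_src _ _)
    rwa [one_smul] at this
  haveI := ModuleCat.subsingleton_of_isZero
    ((DerivedCategory.homologyFunctor (ModuleCat.{u} A) i).map_isZero hz)
  exact inferInstance

/-- The base case: one finite module in degree zero. -/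
theorem cofΓ_module (N : ModuleCat.{u} A) [Module.Finite A N] : CofΓ (Dual.inD A N) := fun i => by
  obtain ⟨fs, hfs⟩ := exists_generators (A := A)
  obtain ⟨g, -⟩ := Groth.L10.GammaTensor.exists_gamma_iso (maximalIdeal A) N fs hfs
  suffices h : IsArtinian A ((Groth.L29.CechNat.C fs N).homology i : Type u) from
    @isArtinian_of_linearEquiv A _ _ _ _ _ _ _ (((DerivedCategory.homologyFunctorFactors (ModuleCat.{u} A) i).app _).symm ≪≫
      (DerivedCategory.homologyFunctor (ModuleCat.{u} A) i).mapIso g).toLinearEquiv h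
  rcases lt_or_ge i 0 with hi | hi
  · haveI := ModuleCat.subsingleton_of_isZero ((HomologicalComplex.ExactAt.isZero_homology
      (K := Groth.L29.CechNat.C fs N) (i := i) (ShortComplex.exact_of_isZero_X₂ _
        (@ModuleCat.isZero_of_subsingleton _ _ _ (Groth.L29.CechArtinian.subsingleton_X_neg fs N i hi)))))
    exact inferInstance
  · obtain ⟨r, rfl⟩ := Int.eq_ofNat_of_zero_le hi
    obtain ⟨e⟩ := Groth.L29.CechArtinian.nonempty_equiv fs r (r : ℤ) rfl N
    haveI : IsArtinian A ((localCohomology (Ideal.span {x : A | x ∈ fs}) r).obj N : Type u) := by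
      rw [hfs]
      exact Groth.L04.LC.isArtinian_H_maximalIdeal r N
    exact isArtinian_of_injective e.toLinearMap e.injective

/-- Local cohomology of a bounded complex with finite cohomology is Artinian. -/
theorem cofΓ_of_finite (M : Dual.D A) (a b : ℤ) (ha : M.IsGE a) (hb : M.IsLE b)
    (hM : ∀ i : ℤ, Module.Finite A (Dual.HD A M i)) : CofΓ M := by
  haveI := cofΓ_iso (A := A)
  refine Groth.L10.DR.of_homology CofΓ cofΓ_zero cofΓ_ext M a b ha hb fun i _ _ => ?_
  haveI : Module.Finite A ((Groth.L02.PC.HH i).obj M) := hM i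
  exact (CofΓ (A := A)).prop_of_iso (Groth.L10.DR.singleShift i _) (cofΓ_shift (cofΓ_module _) (-i))

end Groth.L10.MatlisEquiv
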