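import Groth.Agent.L10.MatlisEquiv.Artinian
import Groth.Agent.S1718
import Groth.Agent.S1812
import Mathlib.CategoryTheory.Abelian.Injective.Basic

/-!
# Completions of bounded complexes with Artinian cohomology
-/

set_option autoImplicit false
set_option linter.style.haveILetI false
set_option backward.defeqAttrib.useBackward true
set_option backward.isDefEq.respectTransparency false
universe u

open CategoryTheory CategoryTheory.Limits CategoryTheory.Pretriangulated IsLocalRing

attribute [local instance] HasDerivedCategory.standard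

noncomputable section

namespace Groth.L10.MatlisEquiv

open Groth.L04.RGamma Groth.L10.CechTorsLocal Groth.L10.CompletionFormula Groth.L04.ComplRG

variable {A : Type u} [CommRing A] [IsLocalRing A] [IsNoetherianRing A]

theorem isTors_of_artinian (K : Dual.D A) (hK : ∀ i : ℤ, IsArtinian A (Dual.HD A K i)) : IsTors (maximalIdeal A) K := fun i =>
  ((isArtinian_iff_cofinite _).1 (hK i)).1

theorem isTors_inD (N : Type u) [AddCommGroup N] [Module A N] (hN : LocCoh.IsPowerTorsion (maximalIdeal A) N) :
    IsTors (maximalIdeal A) (Dual.inD A N) := fun i => by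
  by_cases hi : i = 0
  · subst hi
    exact isPowerTorsion_of_iso (maximalIdeal A)
      ((DerivedCategory.singleFunctorCompHomologyFunctorIso (ModuleCat.{u} A) 0).app (ModuleCat.of A N)).symm hN
  · have hz : IsZero ((DerivedCategory.homologyFunctor (ModuleCat.{u} A) i).obj
        ((DerivedCategory.singleFunctor (ModuleCat.{u} A) 0).obj (ModuleCat.of A N))) := by
      rcases lt_or_gt_of_ne hi with h | h
      · exact DerivedCategory.isZero_of_isGE _ 0 i h
      · exact DerivedCategory.isZero_of_isLE _ 0 i h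
    haveI := ModuleCat.subsingleton_of_isZero hz
    exact fun x => ⟨0, fun a _ => Subsingleton.elim _ _⟩

variable [DRing.HasRgammaI (maximalIdeal A)]

/-- `RΓ_(maximalIdeal A)` of a normalized dualizing complex is the hull of the residue field in degree zero. -/
theorem nonempty_gamma_dualizing_iso {ω : Dual.D A} (hω : Dual.IsDualizing A ω) (hn : Dual.IsNormalized A ω)
    (E : Type u) [AddCommGroup E] [Module A E] (f : ResidueField A →ₗ[A] E) (hf : InjHull.IsInjectiveHull f) :
    Nonempty ((DRing.RgammaI (maximalIdeal A)).obj ω ≅ Dual.inD A E) := by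
  obtain ⟨⟨e⟩, hne⟩ := Groth.Agent.S1718.result A ω hω hn E f hf
  have hc : ∀ q, Nonempty (Dual.HD A ((DRing.RgammaI (maximalIdeal A)).obj ω) q ≃ₗ[A] Dual2.HDI A (maximalIdeal A) ω q) := fun q =>
    Groth.Agent.S1812.result A (maximalIdeal A) ((isNoetherianRing_iff_ideal_fg A).1 inferInstance (maximalIdeal A)) ω q
  have hz : ∀ q : ℤ, q ≠ 0 →
      IsZero ((DerivedCategory.homologyFunctor (ModuleCat.{u} A) q).obj ((DRing.RgammaI (maximalIdeal A)).obj ω)) := fun q hq => by
    obtain ⟨c⟩ := hc q
    haveI := hne q hq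
    exact @ModuleCat.isZero_of_subsingleton _ _ _ c.toEquiv.subsingleton
  haveI : DerivedCategory.IsGE ((DRing.RgammaI (maximalIdeal A)).obj ω) 0 :=
    (DerivedCategory.isGE_iff _ _).2 fun q hq => hz q (by omega)
  haveI : DerivedCategory.IsLE ((DRing.RgammaI (maximalIdeal A)).obj ω) 0 :=
    (DerivedCategory.isLE_iff _ _).2 fun q hq => hz q (by omega)
  obtain ⟨s⟩ := Groth.L10.exists_iso_single_H ((DRing.RgammaI (maximalIdeal A)).obj ω) 0
  obtain ⟨c⟩ := hc 0
  let c' : (DerivedCategory.homologyFunctor (ModuleCat.{u} A) 0).obj ((DRing.RgammaI (maximalIdeal A)).obj ω) ≅ ModuleCat.of A E :=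
    LinearEquiv.toModuleIso (show Dual.HD A ((DRing.RgammaI (maximalIdeal A)).obj ω) 0 ≃ₗ[A] E from c ≪≫ₗ e)
  exact ⟨s ≪≫ (DerivedCategory.singleFunctor _ 0).mapIso c'⟩

variable [DRing.HasDerivedCompletion (maximalIdeal A)]

/-- Finite cohomology of the completion. -/
def FinC : ObjectProperty (Dual.D A) := fun X =>
  ∀ i : ℤ, Module.Finite A (Dual.HD A ((DRing.derivedCompletion (maximalIdeal A)).obj X).obj i)

/-- The completion of local cohomology is the completion. -/
def yIso (X : Dual.D A) : Y (maximalIdeal A) (maximalIdeal A) X ≅ ((DRing.derivedCompletion (maximalIdeal A)).obj X).obj :=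
  haveI := isIso_completion_map (maximalIdeal A) _ (cbij_ε (maximalIdeal A) X)
  (ObjectProperty.ι (DRing.IsDerivedComplete (maximalIdeal A))).mapIso
    (asIso ((DRing.derivedCompletion (maximalIdeal A)).map ((DRing.RgammaIε (maximalIdeal A)).app X)))

theorem finC_of_iso {X X' : Dual.D A} (e : X ≅ X') (h : FinC X) : FinC X' := fun i => by
  exact @Module.Finite.equiv A _ _ _ _ _ _ _ (h i) ((DerivedCategory.homologyFunctor (ModuleCat.{u} A) i).mapIso
    ((ObjectProperty.ι (DRing.IsDerivedComplete (maximalIdeal A))).mapIso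
      ((DRing.derivedCompletion (maximalIdeal A)).mapIso e))).toLinearEquiv

theorem finC_isClosedUnderIsomorphisms : (FinC (A := A)).IsClosedUnderIsomorphisms :=
  ⟨fun e h => finC_of_iso e h⟩

theorem finC_iff_Y (X : Dual.D A) : FinC X ↔ ∀ i : ℤ, Module.Finite A (Dual.HD A (Y (maximalIdeal A) (maximalIdeal A) X) i) :=
  forall_congr' fun i => Module.Finite.equiv_iff
    ((DerivedCategory.homologyFunctor (ModuleCat.{u} A) i).mapIso (yIso X)).toLinearEquiv.symm

theorem finC_shift {X : Dual.D A} (h : FinC X) (n : ℤ) : FinC (X⟦n⟧) := (finC_iff_Y _).2 fun i => by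
  obtain ⟨v⟩ := nonempty_shift_iso (maximalIdeal A) (maximalIdeal A) X n
  exact @Module.Finite.equiv A _ _ _ _ _ _ _ ((finC_iff_Y X).1 h (n + i))
    ((DerivedCategory.homologyFunctor (ModuleCat.{u} A) i).mapIso v ≪≫
      (((DerivedCategory.homologyFunctor (ModuleCat.{u} A) 0).shiftIso n i (n + i) rfl).app
        (Y (maximalIdeal A) (maximalIdeal A) X))).toLinearEquiv.symm

theorem finite_of_exact {M N P : Type u} [AddCommGroup M] [AddCommGroup N] [AddCommGroup P] [Module A M]
    [Module A N] [Module A P] [Module.Finite A M] [Module.Finite A P] {f : M →ₗ[A] N} {g : N →ₗ[A] P}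
    (h : Function.Exact f g) : Module.Finite A N := by
  haveI : IsNoetherian A M := inferInstance
  haveI : IsNoetherian A P := inferInstance
  haveI := isNoetherian_of_range_eq_ker f g (LinearMap.exact_iff.1 h).symm
  exact inferInstance

theorem finC_ext (T : Triangle (Dual.D A)) (hT : T ∈ distinguishedTriangles) (h₁ : FinC T.obj₁) (h₃ : FinC T.obj₃) :
    FinC T.obj₂ := (finC_iff_Y _).2 fun i => by
  obtain ⟨f, g, hfg⟩ := exact_Y (maximalIdeal A) (maximalIdeal A) T hT i
  haveI := (finC_iff_Y _).1 h₁ i
  haveI := (finC_iff_Y _).1 h₃ i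
  exact finite_of_exact hfg

theorem finC_zero (X : Dual.D A) (h : IsZero X) : FinC X := (finC_iff_Y _).2 fun i => by
  haveI := ModuleCat.subsingleton_of_isZero
    ((DerivedCategory.homologyFunctor (ModuleCat.{u} A) i).map_isZero (isZero_Y (maximalIdeal A) (maximalIdeal A) h))
  exact inferInstance

/-- The hull of the residue field completes to the dualizing complex. -/
theorem finC_hull [IsAdicComplete (maximalIdeal A) A] {ω : Dual.D A} (hω : Dual.IsDualizing A ω) (hn : Dual.IsNormalized A ω)
    (E : Type u) [AddCommGroup E] [Module A E] (f : ResidueField A →ₗ[A] E) (hf : InjHull.IsInjectiveHull f) :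
    FinC (Dual.inD A E) := by
  obtain ⟨u⟩ := nonempty_gamma_dualizing_iso hω hn E f hf
  refine finC_of_iso u ?_
  intro i
  haveI := isIso_unit_of_finite (maximalIdeal A) ω hω.finite_cohomology
  haveI := hω.finite_cohomology i
  exact Module.Finite.equiv ((DerivedCategory.homologyFunctor (ModuleCat.{u} A) i).mapIso
    (asIso (DRing.toDerivedCompletion (maximalIdeal A) ω) ≪≫ (yIso ω).symm)).toLinearEquiv

/-- A short exact sequence gives a triangle. -/
theorem exists_triangle {S : ShortComplex (ModuleCat.{u} A)} (hS : S.ShortExact) :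
    ∃ T : Triangle (Dual.D A), T ∈ distinguishedTriangles ∧ T.obj₁ = Dual.inD A S.X₁ ∧
      T.obj₂ = Dual.inD A S.X₂ ∧ T.obj₃ = Dual.inD A S.X₃ :=
  ⟨hS.singleTriangle, hS.singleTriangle_distinguished, rfl, rfl, rfl⟩

/-- Finite powers of the hull. -/
theorem finC_pi (E : Type u) [AddCommGroup E] [Module A E] (hE : FinC (Dual.inD A E)) :
    ∀ n : ℕ, FinC (Dual.inD A (Fin n → E)) := by
  intro n
  induction n with
  | zero =>
    exact finC_zero _ (Functor.map_isZero _ (ModuleCat.isZero_of_subsingleton _))
  | succ n ih =>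
    let e : (E × (Fin n → E)) ≃ₗ[A] (Fin (n + 1) → E) := Fin.consLinearEquiv A (fun _ : Fin (n + 1) => E)
    let S : ShortComplex (ModuleCat.{u} A) := ShortComplex.mk
      (ModuleCat.ofHom (LinearMap.inl A E (Fin n → E))) (ModuleCat.ofHom (LinearMap.snd A E (Fin n → E)))
      (ModuleCat.hom_ext (LinearMap.ext fun _ => rfl))
    have hS : S.ShortExact :=
      { exact := (ShortComplex.ShortExact.moduleCat_exact_iff_function_exact S).2 Function.Exact.inl_snd
        mono_f := (ModuleCat.mono_iff_injective _).2 LinearMap.inl_injective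
        epi_g := (ModuleCat.epi_iff_surjective _).2 fun y => ⟨(0, y), rfl⟩ }
    obtain ⟨T, hT, h1, h2, h3⟩ := exists_triangle hS
    have := finC_ext T hT (h1 ▸ hE) (h3 ▸ ih)
    rw [h2] at this
    exact finC_of_iso ((DerivedCategory.singleFunctor _ 0).mapIso e.toModuleIso) this

/-- The completion of an Artinian module has finite cohomology. -/
theorem finC_artinian [IsAdicComplete (maximalIdeal A) A] {ω : Dual.D A} (hω : Dual.IsDualizing A ω) (hn : Dual.IsNormalized A ω)
    (N : Type u) [AddCommGroup N] [Module A N] [IsArtinian A N] : FinC (Dual.inD A N) := by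
  obtain ⟨E, _, _, f, hf⟩ := Groth.L04.exists_injectiveHull.{u, u} (R := A) (ResidueField A)
  have hE := finC_hull hω hn E f hf
  obtain ⟨fs, hfs⟩ := exists_generators (A := A)
  suffices H : ∀ (k : ℕ) (i : ℤ), i < k - fs.length → ∀ (M : Type u) [AddCommGroup M] [Module A M] [IsArtinian A M],
      Module.Finite A (Dual.HD A ((DRing.derivedCompletion (maximalIdeal A)).obj (Dual.inD A M)).obj i) from
    fun i => H (i + fs.length + 1).toNat i (by omega) N
  intro k
  induction k with
  | zero =>
    intro i hi N _ _ _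
    haveI := ModuleCat.subsingleton_of_isZero (Groth.L10.CompletionBound.isZero_completion (maximalIdeal A) fs hfs
      (Dual.inD A N) i (Or.inr fun j hj => DerivedCategory.isZero_of_isGE _ 0 j (by omega)))
    exact (inferInstance : Module.Finite A
      ((Groth.L10.CompletionBound.HH i).obj ((DRing.derivedCompletion (maximalIdeal A)).obj (Dual.inD A N)).obj))
  | succ k ih =>
    intro i hi N _ _ _
    obtain ⟨h1, h2⟩ := (isArtinian_iff_cofinite (A := A) N).1 inferInstance
    haveI : Module.Finite (A ⧸ (maximalIdeal A)) ↥(LocCoh.torsionBy (maximalIdeal A) N) := Module.Finite.of_restrictScalars_finite A _ _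
    obtain ⟨g, hg⟩ := Groth.L04.exists_embedding_pi hf h1 _ rfl
    let n := Module.finrank (A ⧸ (maximalIdeal A)) ↥(LocCoh.torsionBy (maximalIdeal A) N)
    haveI := Groth.L04.hull_isArtinian hf
    let S : ShortComplex (ModuleCat.{u} A) := ShortComplex.mk (ModuleCat.ofHom g)
      (ModuleCat.ofHom (LinearMap.range g).mkQ)
      (ModuleCat.hom_ext (LinearMap.ext fun x => (Submodule.Quotient.mk_eq_zero _).2 ⟨x, rfl⟩))
    have hS : S.ShortExact :=
      { exact := (ShortComplex.ShortExact.moduleCat_exact_iff_function_exact S).2 (LinearMap.exact_map_mkQ_range g)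
        mono_f := (ModuleCat.mono_iff_injective _).2 hg
        epi_g := (ModuleCat.epi_iff_surjective _).2 (Submodule.mkQ_surjective _) }
    obtain ⟨T, hT, h1, h2, h3⟩ := exists_triangle hS
    obtain ⟨p, q, hpq⟩ := exact_Y (maximalIdeal A) (maximalIdeal A) T.invRotate (inv_rot_of_distTriang _ hT) i
    haveI : Module.Finite A (Dual.HD A (Y (maximalIdeal A) (maximalIdeal A) T.invRotate.obj₁) i) := by
      obtain ⟨v⟩ := nonempty_shift_iso (maximalIdeal A) (maximalIdeal A) T.obj₃ (-1)
      have hC : Module.Finite A (Dual.HD A (Y (maximalIdeal A) (maximalIdeal A) T.obj₃) (-1 + i)) := by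
        rw [h3]
        haveI : IsArtinian A (S.X₃ : Type u) := inferInstanceAs (IsArtinian A ((Fin n → E) ⧸ LinearMap.range g))
        exact @Module.Finite.equiv A _ _ _ _ _ _ _ (ih (-1 + i) (by omega) (S.X₃ : Type u))
          ((DerivedCategory.homologyFunctor (ModuleCat.{u} A) (-1 + i)).mapIso (yIso _).symm).toLinearEquiv
      exact @Module.Finite.equiv A _ _ _ _ _ _ _ hC
        ((DerivedCategory.homologyFunctor (ModuleCat.{u} A) i).mapIso v ≪≫
          (((DerivedCategory.homologyFunctor (ModuleCat.{u} A) 0).shiftIso (-1) i (-1 + i) rfl).app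
            (Y (maximalIdeal A) (maximalIdeal A) T.obj₃))).toLinearEquiv.symm
    haveI : Module.Finite A (Dual.HD A (Y (maximalIdeal A) (maximalIdeal A) T.invRotate.obj₃) i) := by
      change Module.Finite A (Dual.HD A (Y (maximalIdeal A) (maximalIdeal A) T.obj₂) i)
      rw [h2]
      exact (finC_iff_Y _).1 (finC_pi E hE n) i
    have := finite_of_exact hpq
    change Module.Finite A (Dual.HD A (Y (maximalIdeal A) (maximalIdeal A) T.obj₁) i) at this
    rw [h1] at this
    exact @Module.Finite.equiv A _ _ _ _ _ _ _ this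
      ((DerivedCategory.homologyFunctor (ModuleCat.{u} A) i).mapIso (yIso _)).toLinearEquiv

/-- The completion of a bounded complex with Artinian cohomology has finite cohomology. -/
theorem finC_of_artinian [IsAdicComplete (maximalIdeal A) A] {ω : Dual.D A} (hω : Dual.IsDualizing A ω)
    (hn : Dual.IsNormalized A ω) (K : Dual.D A) (a b : ℤ) (ha : K.IsGE a) (hb : K.IsLE b)
    (hK : ∀ i : ℤ, IsArtinian A (Dual.HD A K i)) : FinC K := by
  haveI := finC_isClosedUnderIsomorphisms (A := A)
  refine Groth.L10.DR.of_homology FinC finC_zero finC_ext K a b ha hb fun i _ _ => ?_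
  haveI : IsArtinian A ((Groth.L02.PC.HH i).obj K) := hK i
  exact (FinC (A := A)).prop_of_iso (Groth.L10.DR.singleShift i _) (finC_shift (finC_artinian hω hn _) (-i))

/-- Completions of Artinian modules are perverse coherent. -/
theorem subsingleton_completion_hom [IsAdicComplete (maximalIdeal A) A] {ω : Dual.D A} (hω : Dual.IsDualizing A ω)
    (hn : Dual.IsNormalized A ω) (N : Type u) [AddCommGroup N] [Module A N] (hN : LocCoh.IsPowerTorsion (maximalIdeal A) N)
    (i : ℤ) (hi : i ≠ 0) :
    Subsingleton (((DRing.derivedCompletion (maximalIdeal A)).obj (Dual.inD A N)).obj ⟶ ω⟦i⟧) := by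
  obtain ⟨E, _, _, f, hf⟩ := Groth.L04.exists_injectiveHull.{u, u} (R := A) (ResidueField A)
  obtain ⟨u⟩ := nonempty_gamma_dualizing_iso hω hn E f hf
  haveI := isIso_unit_of_finite (maximalIdeal A) ω hω.finite_cohomology
  have hω' : DRing.IsDerivedComplete (maximalIdeal A) ω :=
    isComplete_of_iso (maximalIdeal A) (asIso (DRing.toDerivedCompletion (maximalIdeal A) ω)).symm ((DRing.derivedCompletion (maximalIdeal A)).obj ω).property
  have h₁ := cbij_toDerivedCompletion (maximalIdeal A) (Dual.inD A N) _ (isComplete_shift (maximalIdeal A) hω' i)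
  have h₂ := Groth.L10.DualityCompletion.tbij_shift (maximalIdeal A) (tbij_ε (maximalIdeal A) ω) i _ (isTors_inD N hN)
  suffices h : Subsingleton (Dual.inD A N ⟶ (Dual.inD A E)⟦i⟧) by
    haveI : Subsingleton (Dual.inD A N ⟶ ((DRing.RgammaI (maximalIdeal A)).obj ω)⟦i⟧) :=
      @Equiv.subsingleton _ _ ((shiftFunctor (Dual.D A) i).mapIso u).homToEquiv h
    haveI : Subsingleton (Dual.inD A N ⟶ ω⟦i⟧) := (Equiv.ofBijective _ h₂).symm.subsingleton
    exact (Equiv.ofBijective _ h₁).subsingleton
  rcases lt_or_gt_of_ne hi with h | h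
  · refine subsingleton_of_forall_eq 0 fun φ => ?_
    haveI : DerivedCategory.IsGE ((Dual.inD A E)⟦i⟧) (-i) :=
      DerivedCategory.TStructure.t.isGE_shift _ 0 i (-i) (by omega)
    exact DerivedCategory.TStructure.t.zero φ 0 (-i) (by omega)
  · obtain ⟨m, rfl⟩ : ∃ m : ℕ, i = ((m + 1 : ℕ) : ℤ) := ⟨(i - 1).toNat, by omega⟩
    haveI := hf.isInjective
    haveI : Injective (ModuleCat.of A E) := (Module.injective_iff_injective_object A E).1 inferInstance
    letI := HasExt.standard (ModuleCat.{u} A)
    haveI : Subsingleton (Abelian.Ext (ModuleCat.of A N) (ModuleCat.of A E) (m + 1)) :=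
      subsingleton_of_forall_eq 0 fun x => x.eq_zero_of_injective
    exact (Abelian.Ext.homEquiv (X := ModuleCat.of A N) (Y := ModuleCat.of A E) (n := m + 1)).symm.subsingleton

end Groth.L10.MatlisEquiv
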