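import Groth.Agent.L04.LC.CompletionTriangleRG
import Groth.Agent.L10.RDerCohIn
import Groth.Agent.L10.DRing.CompletionFinite
import Groth.Agent.L05.Krasner.Newton

/-!
# Local cohomology and derived completion: maps inverted, bounds
-/

set_option autoImplicit false
set_option linter.style.haveILetI false
set_option backward.defeqAttrib.useBackward true
set_option backward.isDefEq.respectTransparency false
universe u

open CategoryTheory CategoryTheory.Limits CategoryTheory.Pretriangulated

attribute [local instance] HasDerivedCategory.standard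

noncomputable section

namespace Groth.L10.MatlisEquiv

open Groth.L04.RGamma Groth.L10.CechTorsLocal Groth.L10.CompletionFormula Groth.L04.ComplRG

variable {A : Type u} [CommRing A] (I : Ideal A)

/-- Completion inverts the maps that complete objects do not see. -/
theorem isIso_completion_map [DRing.HasDerivedCompletion I] {X Y : Dual.D A} (φ : X ⟶ Y) (h : Cbij I φ) :
    IsIso ((DRing.derivedCompletion I).map φ) := by
  have nat : φ ≫ DRing.toDerivedCompletion I Y = DRing.toDerivedCompletion I X ≫
      ((DRing.derivedCompletion I).map φ).hom := (DRing.derivedCompletionAdj I).unit.naturality φ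
  obtain ⟨e, he⟩ := Groth.L10.CompletionFormula.exists_iso I (cbij_toDerivedCompletion I X)
    (Cbij.comp I h (cbij_toDerivedCompletion I Y)) ((DRing.derivedCompletion I).obj X).property
    ((DRing.derivedCompletion I).obj Y).property
  have : e.hom = ((DRing.derivedCompletion I).map φ).hom :=
    (cbij_toDerivedCompletion I X _ ((DRing.derivedCompletion I).obj Y).property).1 (he.trans nat)
  haveI : IsIso ((ObjectProperty.ι (DRing.IsDerivedComplete I)).map ((DRing.derivedCompletion I).map φ)) := by
    change IsIso ((DRing.derivedCompletion I).map φ).hom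
    rw [← this]; infer_instance
  exact isIso_of_reflects_iso _ (ObjectProperty.ι (DRing.IsDerivedComplete I))

variable [IsNoetherianRing A] [DRing.HasRgammaI I]

/-- Local cohomology inverts the maps that torsion objects do not see. -/
theorem isIso_RΓ_map {X Y : Dual.D A} (φ : X ⟶ Y) (h : Tbij I φ) :
    IsIso ((DRing.RgammaI I).map φ) := by
  have nat := ε_naturality I φ
  have hb : Tbij I ((DRing.RgammaIε I).app X ≫ φ) := Tbij.comp (tbij_ε I X) h
  obtain ⟨u, hu⟩ := (hb _ (isTors_RgammaI I Y)).2 ((DRing.RgammaIε I).app Y)
  change u ≫ (DRing.RgammaIε I).app X ≫ φ = (DRing.RgammaIε I).app Y at hu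
  refine ⟨u, (hb _ (isTors_RgammaI I X)).1 ?_, (tbij_ε I Y _ (isTors_RgammaI I Y)).1 ?_⟩
  · change ((DRing.RgammaI I).map φ ≫ u) ≫ _ = 𝟙 _ ≫ _
    rw [Category.assoc, hu, Category.id_comp]
    exact nat
  · change (u ≫ (DRing.RgammaI I).map φ) ≫ _ = 𝟙 _ ≫ _
    rw [Category.assoc, Category.id_comp]
    exact (congrArg (u ≫ ·) nat).trans hu

theorem cbij_ε (K : Dual.D A) : Cbij I ((DRing.RgammaIε I).app K) := fun _ hP =>
  bijective_ε_comp I ((isNoetherianRing_iff_ideal_fg A).1 inferInstance I) K hP

theorem tbij_unit [DRing.HasDerivedCompletion I] (K : Dual.D A) : Tbij I (DRing.toDerivedCompletion I K) :=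
  fun _ hT => bijective_comp_toCompletion I ((isNoetherianRing_iff_ideal_fg A).1 inferInstance I) K hT

/-- `RΓ_I` does not decrease degrees. -/
theorem isGE_RΓ (Z : Dual.D A) (a : ℤ) [Z.IsGE a] : DerivedCategory.IsGE ((DRing.RgammaI I).obj Z) a :=
  Groth.L10.RDerBound.isGE_obj (F := DRing.gammaI I)
    ((DRing.gammaIKh I).totalRightDerivedUnit DerivedCategory.Qh
      (HomotopyCategory.quasiIso (ModuleCat.{u} A) (ComplexShape.up ℤ))) Z a

/-- For a finite module over a complete ring, a complex with finite cohomology is complete. -/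
theorem isIso_unit_of_finite [IsAdicComplete I A] [DRing.HasDerivedCompletion I] (K : Dual.D A)
    (hK : ∀ n : ℤ, Module.Finite A (Dual.HD A K n)) : IsIso (DRing.toDerivedCompletion I K) := by
  rw [DerivedCategory.isIso_iff]
  intro n
  obtain ⟨e, he⟩ := Groth.L10.CompletionFinite.exists_homology_equiv I K hK n
  haveI := hK n
  haveI : IsAdicComplete I (Dual.HD A K n) := Groth.L05.Krasner.isAdicComplete_of_finite I _
  rw [ConcreteCategory.isIso_iff_bijective]
  have hb : Function.Bijective (e ∘ ((DerivedCategory.homologyFunctor (ModuleCat.{u} A) n).map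
      (DRing.toDerivedCompletion I K)).hom) := by
    convert (AdicCompletion.of_bijective I (Dual.HD A K n)) using 1
    funext x
    exact he x
  exact (Function.Bijective.of_comp_iff' e.bijective _).1 hb

end Groth.L10.MatlisEquiv
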